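import Mathlib
import Cfsg.Agent.Helper17.HCPTC.Perm

/-! The presented group `HCP` is finite, of order dividing 21504. -/

set_option autoImplicit false
set_option linter.all false

namespace Cfsg.Agent.Helper17.HeCent

theorem card_HsP : Nat.card HCPTC.Hs ∣ 2 := by
  have h : HCPTC.Hs = Subgroup.zpowers (HCPTC.gG 0) := by
    rw [HCPTC.Hs, MonoidHom.map_closure, Set.image_singleton, Subgroup.zpowers_eq_closure]
    rfl
  rw [h, Nat.card_zpowers]
  apply orderOf_dvd_of_pow_eq_one
  rw [pow_two]
  exact HCPTC.gG_mul_self 0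

theorem card_GP : Nat.card HCPTC.G ∣ 21504 := by
  have hi : HCPTC.Hs.index = 10752 := by
    rw [Subgroup.index_eq_card]; exact HCPTC.card_Q
  have h := Subgroup.card_mul_index HCPTC.Hs
  rw [hi] at h
  rw [← h]
  exact (Nat.mul_dvd_mul_right card_HsP 10752).trans (by norm_num)

theorem finGP : Finite HCPTC.G := by
  apply Nat.finite_of_card_ne_zero
  intro h
  have h2 := card_GP
  rw [h] at h2
  norm_num at h2

end Cfsg.Agent.Helper17.HeCent
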