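import Mathlib

/-! Orbit–stabiliser bounds for a group acting through a homomorphism to a permutation group:
an upper bound (`orbit_le_gen`) and a lower bound (`step_gen`) for `|K|` in terms of the stabiliser
of a point. -/

set_option autoImplicit false
set_option linter.all false

namespace Cfsg.Agent.Helper17.HeCent

variable {Γ X : Type*} [Group Γ]

/-- stabiliser of a point under a permutation representation. -/
def stabG (φ : Γ →* Equiv.Perm X) (β : X) : Subgroup Γ :=
  (MulAction.stabilizer (Equiv.Perm X) β).comap φ

theorem mem_stabG {φ : Γ →* Equiv.Perm X} {β : X} {g : Γ} : g ∈ stabG φ β ↔ φ g β = β := by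
  rw [stabG, Subgroup.mem_comap, MulAction.mem_stabilizer_iff, Equiv.Perm.smul_def]

theorem card_inf_stab (φ : Γ →* Equiv.Perm X) (K : Subgroup Γ) (β : X) :
    Nat.card ((stabG φ β).subgroupOf K) = Nat.card ↥(K ⊓ stabG φ β) := by
  rw [← Subgroup.inf_subgroupOf_left]
  exact Nat.card_congr (Subgroup.subgroupOfEquivOfLe inf_le_left).toEquiv

theorem orbit_le_gen [Finite Γ] [DecidableEq X] (φ : Γ →* Equiv.Perm X) (K : Subgroup Γ) (β : X)
    (S : Finset X) (h : ∀ k ∈ K, φ k β ∈ S) :
    Nat.card K ≤ S.card * Nat.card ↥(K ⊓ stabG φ β) := by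
  classical
  set St : Subgroup K := (stabG φ β).subgroupOf K with hSt
  have hcard : Nat.card St = Nat.card ↥(K ⊓ stabG φ β) := card_inf_stab φ K β
  have hidx : St.index ≤ S.card := by
    rw [Subgroup.index_eq_card]
    let f : K ⧸ St → S := fun q => Quotient.liftOn' q
      (fun k => (⟨φ (k : Γ) β, h k k.2⟩ : S)) (by
        intro a b hab
        rw [QuotientGroup.leftRel_apply, hSt, Subgroup.mem_subgroupOf, mem_stabG] at hab
        simp only [Subgroup.coe_mul, Subgroup.coe_inv, map_mul, map_inv,
          Equiv.Perm.mul_apply] at hab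
        rw [Equiv.Perm.inv_eq_iff_eq] at hab
        exact Subtype.ext hab.symm)
    have hf : Function.Injective f := by
      intro q₁ q₂
      induction q₁ using QuotientGroup.induction_on with
      | H a =>
        induction q₂ using QuotientGroup.induction_on with
        | H b =>
          intro hab
          have hab' : φ (a : Γ) β = φ (b : Γ) β := by
            have := congrArg Subtype.val hab
            exact this
          rw [QuotientGroup.eq, hSt, Subgroup.mem_subgroupOf, mem_stabG]
          simp only [Subgroup.coe_mul, Subgroup.coe_inv, map_mul, map_inv, Equiv.Perm.mul_apply]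
          rw [Equiv.Perm.inv_eq_iff_eq]
          exact hab'.symm
    have := Nat.card_le_card_of_injective f hf
    simpa using this
  calc Nat.card K = St.index * Nat.card St := by
        rw [mul_comm]; exact (Subgroup.card_mul_index St).symm
    _ ≤ S.card * Nat.card St := Nat.mul_le_mul_right _ hidx
    _ = S.card * Nat.card ↥(K ⊓ stabG φ β) := by rw [hcard]

theorem step_gen [Finite Γ] [DecidableEq X] (φ : Γ →* Equiv.Perm X) (K : Subgroup Γ) (β : X)
    (O : Finset X) (h : ∀ p ∈ O, ∃ k ∈ K, φ k β = p) :
    O.card * Nat.card ↥(K ⊓ stabG φ β) ≤ Nat.card K := by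
  classical
  set St : Subgroup K := (stabG φ β).subgroupOf K with hSt
  have hcard : Nat.card St = Nat.card ↥(K ⊓ stabG φ β) := card_inf_stab φ K β
  have hidx : O.card ≤ St.index := by
    rw [Subgroup.index_eq_card]
    choose! f hfK hf using h
    have : Function.Injective (fun p : O => ((⟨f p.1, hfK p.1 p.2⟩ : K) : K ⧸ St)) := by
      intro p q hpq
      simp only at hpq
      rw [QuotientGroup.eq] at hpq
      rw [hSt, Subgroup.mem_subgroupOf, mem_stabG] at hpq
      simp only [Subgroup.coe_mul, Subgroup.coe_inv, map_mul, map_inv,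
        Equiv.Perm.mul_apply] at hpq
      rw [hf q.1 q.2, Equiv.Perm.inv_eq_iff_eq, hf p.1 p.2] at hpq
      exact Subtype.ext hpq.symm
    have := Nat.card_le_card_of_injective _ this
    simpa using this
  calc O.card * Nat.card ↥(K ⊓ stabG φ β) = O.card * Nat.card St := by rw [hcard]
    _ ≤ St.index * Nat.card St := Nat.mul_le_mul_right _ hidx
    _ = Nat.card K := by rw [mul_comm]; exact Subgroup.card_mul_index St

end Cfsg.Agent.Helper17.HeCent
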