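import Mathlib
import Cfsg.Agent.Helper19.HeOrd.Lower
import Cfsg.Agent.Helper17.HCPTC.Perm
import Cfsg.Agent.Helper17.HeCent.Gen
import Cfsg.Agent.Helper17.HeCent.CardG

/-! The centraliser `C` of the involution `e` in the presented Held group has order 21504 and is
isomorphic to the presented group `HCP` (`HCPTC.G`).  Upper bound for `|C|` through a stabiliser chain
`0, 1, 137` on the 2058 points (fixed points of `e`, suborbit invariants, and the order of the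
three-point stabiliser); lower bound through explicit words. -/

set_option autoImplicit false
set_option linter.all false
set_option maxRecDepth 100000

noncomputable section

namespace Cfsg.Agent.Helper17.HeCent

open Cfsg.Spor Cfsg.Agent.Helper17 Cfsg.Agent.Helper17.HeTC Cfsg.Agent.Helper19.HeOrd

/-- the involution: the generator `e` of the Held group. -/
def zH : G := gG 4

/-- words (in the seven generators of `He`) for five involutions of the centraliser of `e`. -/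
def cwn : ℕ → List ℕ
  | 0 => [4, 1, 3, 0, 6, 4, 3, 2, 3, 1, 4, 1, 3, 2, 3, 4, 6, 0, 3, 1, 4, 1, 3, 0, 6, 4, 3, 2, 3, 1]
  | 1 => [4, 2, 1, 6, 5, 0, 2, 4, 3, 4, 3, 4, 2, 0, 5, 6, 1, 2, 4, 2, 1, 6, 5, 0, 2, 4, 3, 4, 0, 6, 2, 1, 3, 2, 6, 0, 1, 4, 1, 0, 6, 2, 3, 1, 2, 6, 0, 4, 0, 6, 2, 1, 3, 2, 6, 0, 1, 6, 3, 2, 3, 1, 4, 5, 0, 3, 4, 3, 0, 5, 4, 1, 3, 2, 3, 6, 4, 6, 3, 2, 3, 1, 4, 5, 0, 3, 4]
  | 2 => [3, 0, 5, 4, 1, 3, 2, 3, 6, 4, 6, 3, 2, 3, 1, 4, 5, 0, 3, 4, 3, 0, 5, 4, 1, 3, 2, 3, 6, 1, 3, 0, 6, 4, 3, 2, 3, 1, 4, 1, 3, 2, 3, 4, 6, 0, 3, 1, 4, 1, 3, 0, 6, 4, 3, 2, 3, 1, 6, 3, 2, 3, 1, 4, 5, 0, 3, 4, 3, 0, 5, 4, 1, 3, 2, 3, 6, 4, 6, 3, 2, 3, 1, 4, 5, 0, 3, 4]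
  | 3 => [4, 2, 1, 6, 5, 0, 2, 4, 3, 4, 3, 4, 2, 0, 5, 6, 1, 2, 4, 2, 1, 6, 5, 0, 2, 4, 3, 4, 2, 1, 5, 1, 3, 0, 5, 4, 1, 6, 5, 2, 3, 4, 3, 2, 5, 6, 1, 4, 5, 0, 3, 4, 3, 0, 5, 4, 1, 6, 5, 2, 3, 4, 3, 2, 5, 6, 1, 4, 5, 0, 3, 4, 3, 0, 5, 4, 1, 6, 5, 2, 3]
  | _ => [1, 5, 3, 5, 3, 1, 0, 1, 4, 1, 0, 1, 3, 5, 3, 5, 1, 4, 1, 5, 3, 5, 3, 1, 0, 1, 4, 2, 4, 5, 0, 3, 2, 5, 6, 1, 4, 5, 0, 3, 4, 3, 0, 5, 4, 1, 6, 5, 2, 3, 4, 3, 2, 5, 6, 1, 4, 5, 0, 3, 4, 3, 0, 5, 4, 1, 6, 5, 2, 3, 4, 3, 2, 5, 6, 1, 4, 5, 0, 3]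

def qG (l : ℕ) : G := prodw (cwn l)

def qprod : List ℕ → G
  | [] => 1
  | l :: w => qprod w * qG l

def fl : List ℕ → List ℕ
  | [] => []
  | l :: w => cwn l ++ fl w

theorem pw_app (u v : List ℕ) : prodw (u ++ v) = prodw v * prodw u := by
  induction u with
  | nil => simp [prodw]
  | cons l u ih => simp [prodw, ih, mul_assoc]

theorem qprod_eq (w : List ℕ) : qprod w = prodw (fl w) := by
  induction w with
  | nil => rfl
  | cons l w ih => rw [qprod, fl, pw_app, ih, qG]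

theorem prodw_reverse (w : List ℕ) : prodw w.reverse = (prodw w)⁻¹ := by
  induction w with
  | nil => simp [prodw]
  | cons l w ih =>
    rw [List.reverse_cons, pw_app, ih]
    show prodw [l] * (prodw w)⁻¹ = (prodw w * gG l)⁻¹
    rw [mul_inv_rev, gG_inv]
    simp [prodw]

theorem pw_pow (u : List ℕ) (m : ℕ) : (prodw u) ^ m = prodw ((List.replicate m u).flatten) := by
  induction m with
  | zero => simp [prodw]
  | succ m ih =>
    rw [pow_succ, List.replicate_succ, List.flatten_cons, pw_app, ih]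

/-! ### the centraliser and the upper bound -/

def CH : Subgroup G := Subgroup.centralizer {zH}

theorem mem_CH {c : G} : c ∈ CH ↔ zH * c = c * zH := by
  rw [CH, Subgroup.mem_centralizer_iff]
  simp

theorem phi_zH : phi zH = σ 4 := phi_gG (by decide)

def FixZ : Finset ℕ := (Finset.range N).filter (fun i => sg 4 i = i)

theorem fix_mem {c : G} (hc : c ∈ CH) {p : ℕ} (hp : p ∈ FixZ) : phi c p ∈ FixZ := by
  rw [FixZ, Finset.mem_filter, Finset.mem_range] at hp ⊢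
  refine ⟨phi_lt c hp.1, ?_⟩
  have h1 : phi (zH * c) p = phi (c * zH) p := by rw [mem_CH.mp hc]
  rw [map_mul, map_mul, Equiv.Perm.mul_apply, Equiv.Perm.mul_apply, phi_zH, σ_apply, σ_apply,
    hp.2] at h1
  exact h1

def KC1 : Subgroup G := CH ⊓ stabG phi 0
def KC2 : Subgroup G := KC1 ⊓ stabG phi 1
def KC3 : Subgroup G := KC2 ⊓ stabG phi 137

theorem stabG_eq (β : ℕ) : stabG phi β = stabP β := rfl

theorem KC1_le : KC1 ≤ Hs := by
  intro k hk
  rw [← Kof0, mem_Kof]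
  intro b hb
  rw [List.mem_singleton] at hb
  subst hb
  exact mem_stabG.mp hk.2

theorem card_FixZ : FixZ.card = 42 := by decide +kernel

def Fix1 : Finset ℕ := FixZ.filter (fun i => oid i = 1)

theorem card_Fix1 : Fix1.card = 16 := by decide +kernel

def Fix2 : Finset ℕ := FixZ.filter (fun i => oid i = 3 ∧ oid (sg 1 i) = 1)

theorem card_Fix2 : Fix2.card = 2 := by decide +kernel

theorem lvl0 : Nat.card CH ≤ 42 * Nat.card KC1 := by
  haveI := finG
  have h := orbit_le_gen phi CH 0 FixZ (fun k hk => fix_mem hk (by decide +kernel))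
  rw [card_FixZ] at h
  exact h

theorem lvl1 : Nat.card KC1 ≤ 16 * Nat.card KC2 := by
  haveI := finG
  have h := orbit_le_gen phi KC1 1 Fix1 (fun k hk => by
    rw [Fix1, Finset.mem_filter]
    refine ⟨fix_mem hk.1 (by decide +kernel), ?_⟩
    rw [phi_cls k (KC1_le hk) 1 (by decide)]
    decide +kernel)
  rw [card_Fix1] at h
  exact h

theorem conj_mem_Hs {k : G} (hk : k ∈ KC2) : gG 1 * k * gG 1 ∈ Hs := by
  rw [← Kof0, mem_Kof]
  intro b hb
  rw [List.mem_singleton] at hb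
  subst hb
  have h1 : phi k 1 = 1 := mem_stabG.mp hk.2
  rw [map_mul, map_mul, phi_gG (by decide : 1 < nl), Equiv.Perm.mul_apply, Equiv.Perm.mul_apply,
    σ_apply, σ_apply]
  have e0 : sg 1 0 = 1 := by decide +kernel
  have e1 : sg 1 1 = 0 := by decide +kernel
  rw [e0, h1, e1]

theorem lvl2 : Nat.card KC2 ≤ 2 * Nat.card KC3 := by
  haveI := finG
  have h := orbit_le_gen phi KC2 137 Fix2 (fun k hk => by
    rw [Fix2, Finset.mem_filter]
    refine ⟨fix_mem hk.1.1 (by decide +kernel), ?_, ?_⟩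
    · rw [phi_cls k (KC1_le hk.1) 137 (by decide)]
      decide +kernel
    · have h2 := phi_cls _ (conj_mem_Hs hk) (sg 1 137) (sg_lt (by decide))
      rw [map_mul, map_mul, phi_gG (by decide : 1 < nl), Equiv.Perm.mul_apply,
        Equiv.Perm.mul_apply, σ_apply, σ_apply, sg_sg] at h2
      rw [h2]
      decide +kernel)
  rw [card_Fix2] at h
  exact h

def T137 : List (ℕ × ℕ × ℕ) :=
  [(79, 137, 1), (213, 137, 3), (46, 79, 2), (81, 79, 3), (135, 79, 4), (1978, 79, 5), (82, 46, 3), (84, 46, 4), (2001, 46, 5), (140, 81, 1), (1738, 81, 5), (1771, 135, 5), (1818, 1978, 1), (1926, 1978, 3), (1799, 1978, 4), (141, 82, 1), (142, 82, 4), (1746, 2001, 1), (1769, 140, 5), (1323, 1738, 1), (1366, 1738, 4), (1393, 1771, 1), (1441, 1818, 2), (1744, 1818, 3), (1527, 1818, 4), (918, 1818, 5), (1737, 1926, 1), (219, 141, 2), (320, 141, 5), (1817, 1746, 2), (1337, 1746, 3), (1166, 1746, 5), (1365, 1769, 1), (1739, 1323, 2),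 (903, 1323, 3), (934, 1323, 4), (964, 1323, 5), (1526, 1393, 2), (963, 1393, 3), (1353, 1393, 5), (1816, 1441, 3), (1110, 1441, 4), (839, 1441, 5), (1336, 1744, 1), (1392, 1744, 4), (916, 1744, 5), (1077, 1527, 5), (1350, 918, 0), (574, 918, 3), (1079, 918, 4), (1732, 1737, 2), (962, 1737, 5), (347, 219, 5), (315, 320, 1), (1745, 1817, 3), (913, 1337, 5), (767, 1166, 1), (949, 1166, 3), (1255, 1166, 4), (1381, 1365, 2), (1312, 1365, 5), (1338, 1739, 3), (1367, 1739, 4), (607, 1739, 5), (956, 964, 0), (1396, 964, 1), (1394, 1526, 3), (1072, 963, 5), (1068, 1353, 3), (1775, 1816, 1), (1488, 1816, 4), (503, 839, 1), (691, 1392, 5), (1075, 916, 1), (840, 1077, 1), (917, 574, 1), (465, 347, 1), (504, 315, 2), (505, 315, 3), (1349, 315, 5), (1779, 1745, 1), (838, 767, 3), (1373, 1312, 1), (1748, 1338, 1), (1383, 956, 1), (1780, 1396, 2), (1105, 1068, 1), (1781, 1775, 4), (1078, 691, 1)]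

theorem card_Kof2 : Nat.card ↥(Kof [1, 0]) ≤ 1440 := by
  have h1 := lev1
  have h2 := lev2
  rw [card_G] at h1
  omega

theorem card_Kof3 : Nat.card ↥(Kof [137, 1, 0]) ≤ 16 := by
  haveI := finG
  have h := level wOK3 137 T137 (by decide +kernel) 90 (by decide +kernel)
  have h2 := card_Kof2
  omega

theorem KC3_le : KC3 ≤ Kof [137, 1, 0] := by
  intro k hk
  rw [mem_Kof]
  intro b hb
  simp only [List.mem_cons, List.not_mem_nil, or_false] at hb
  rcases hb with rfl | rfl | rfl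
  · exact mem_stabG.mp hk.2
  · exact mem_stabG.mp hk.1.2
  · exact mem_stabG.mp hk.1.1.2

theorem card_CH_le : Nat.card CH ≤ 21504 := by
  haveI := finG
  have h0 := lvl0
  have h1 := lvl1
  have h2 := lvl2
  have h3 : Nat.card KC3 ≤ Nat.card ↥(Kof [137, 1, 0]) := Subgroup.card_le_of_le KC3_le
  have h4 := card_Kof3
  omega

/-! ### the homomorphism from the presented group `HCP` -/

def f2 : HCP.Gen → G
  | .a => qG 0
  | .b => qG 1
  | .c => qG 2
  | .d => qG 3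
  | .e => qG 4

def labN (i j : ℕ) : ℕ :=
  if i = j then 1 else
  if (i = 0 ∧ j = 4) ∨ (i = 4 ∧ j = 0) ∨ (i = 1 ∧ j = 3) ∨ (i = 3 ∧ j = 1) ∨ (i = 1 ∧ j = 4) ∨
    (i = 4 ∧ j = 1) ∨ (i = 2 ∧ j = 3) ∨ (i = 3 ∧ j = 2) then 2 else 4

theorem lab_eq (x y : HCP.Gen) :
    coxLabel HCP.edges x y = labN (HCPTC.idx x) (HCPTC.idx y) := by
  cases x <;> cases y <;> decide

theorem f2_eq (x : HCP.Gen) : f2 x = qG (HCPTC.idx x) := by cases x <;> rfl

def chkCoxAll : Bool :=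
  (List.range 5).all fun i => (List.range 5).all fun j =>
    chkBase ((List.replicate (labN i j) (cwn j ++ cwn i)).flatten)

theorem chkCoxAll_ok : chkCoxAll = true := by decide +kernel

theorem cox_ok (i j : ℕ) (hi : i < 5) (hj : j < 5) : (qG i * qG j) ^ labN i j = 1 := by
  have h := chkCoxAll_ok
  simp only [chkCoxAll, List.all_eq_true, List.mem_range] at h
  have h1 := prodw_eq_one (h i hi j hj)
  rw [qG, qG, ← pw_app, pw_pow]
  exact h1
def extraW : List (List ℕ) :=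
  [
    [3, 0, 2, 0, 3, 0, 2, 0],
    [2, 4, 2, 0, 2, 4, 2, 0],
    [3, 4, 3, 0, 3, 4, 3, 0],
    [2, 0, 1, 0, 2, 0, 1, 0, 2, 0, 1, 0],
    [1, 2, 1, 0, 1, 2, 1, 0, 1, 2, 1, 0],
    [2, 0, 2, 1, 0, 1, 2, 0, 2, 1, 0, 1, 0],
    [3, 0, 3, 1, 2, 1, 0, 3, 0, 1, 2, 1, 0],
    [4, 1, 2, 4, 2, 1, 0, 1, 2, 4, 2, 1, 0]]

theorem extraW_ok : extraW.all (fun w => chkBase (fl w)) = true := by decide +kernel

theorem extra_one {w : List ℕ} (hw : w ∈ extraW) : qprod w = 1 := by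
  have h := extraW_ok
  rw [List.all_eq_true] at h
  rw [qprod_eq]
  exact prodw_eq_one (h w hw)

theorem idx_lt5 (x : HCP.Gen) : HCPTC.idx x < 5 := by cases x <;> decide

theorem rel2 : ∀ r ∈ HCPTC.Rels, FreeGroup.lift f2 r = 1 := by
  intro r hr
  rcases hr with ⟨x, _, y, _, rfl⟩ | hr
  · rw [map_pow, map_mul, FreeGroup.lift_apply_of, FreeGroup.lift_apply_of, lab_eq, f2_eq, f2_eq]
    exact cox_ok _ _ (idx_lt5 x) (idx_lt5 y)
  · simp only [Set.mem_setOf_eq, HCP.extra, List.mem_cons, List.mem_singleton, List.not_mem_nil,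
      or_false] at hr
    rcases hr with rfl | rfl | rfl | rfl | rfl | rfl | rfl | rfl
    · have h := extra_one (w := [3, 0, 2, 0, 3, 0, 2, 0]) (by simp [extraW])
      simpa [f2, qprod, mul_assoc] using h
    · have h := extra_one (w := [2, 4, 2, 0, 2, 4, 2, 0]) (by simp [extraW])
      simpa [f2, qprod, mul_assoc] using h
    · have h := extra_one (w := [3, 4, 3, 0, 3, 4, 3, 0]) (by simp [extraW])
      simpa [f2, qprod, mul_assoc] using h
    · have h := extra_one (w := [2, 0, 1, 0, 2, 0, 1, 0, 2, 0, 1, 0]) (by simp [extraW])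
      simpa [f2, qprod, mul_assoc] using h
    · have h := extra_one (w := [1, 2, 1, 0, 1, 2, 1, 0, 1, 2, 1, 0]) (by simp [extraW])
      simpa [f2, qprod, mul_assoc] using h
    · have h := extra_one (w := [2, 0, 2, 1, 0, 1, 2, 0, 2, 1, 0, 1, 0]) (by simp [extraW])
      simpa [f2, qprod, mul_assoc] using h
    · have h := extra_one (w := [3, 0, 3, 1, 2, 1, 0, 3, 0, 1, 2, 1, 0]) (by simp [extraW])
      simpa [f2, qprod, mul_assoc] using h
    · have h := extra_one (w := [4, 1, 2, 4, 2, 1, 0, 1, 2, 4, 2, 1, 0]) (by simp [extraW])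
      simpa [f2, qprod, mul_assoc] using h

def phi2 : HCPTC.G →* G := PresentedGroup.toGroup rel2

theorem phi2_of (x : HCP.Gen) : phi2 (PresentedGroup.of x) = f2 x :=
  PresentedGroup.toGroup.of rel2

def RH : Subgroup G := phi2.range

theorem qG_mem (l : ℕ) : qG l ∈ RH := by
  have h : ∀ x : HCP.Gen, f2 x ∈ RH := fun x => ⟨PresentedGroup.of x, phi2_of x⟩
  match l with
  | 0 => exact h .a
  | 1 => exact h .b
  | 2 => exact h .c
  | 3 => exact h .d
  | (n + 4) => exact h .e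

theorem qprod_mem (w : List ℕ) : qprod w ∈ RH := by
  induction w with
  | nil => exact RH.one_mem
  | cons l w ih => exact RH.mul_mem ih (qG_mem l)

def chkComm : Bool :=
  (List.range 5).all fun l => chkBase (cwn l ++ [4] ++ (cwn l).reverse ++ [4])

theorem chkComm_ok : chkComm = true := by decide +kernel

theorem qG_comm (l : ℕ) (hl : l < 5) : qG l ∈ CH := by
  have h := chkComm_ok
  simp only [chkComm, List.all_eq_true, List.mem_range] at h
  have h1 := prodw_eq_one (h l hl)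
  rw [pw_app, pw_app, pw_app, prodw_reverse] at h1
  have hz : prodw [4] = zH := by simp [prodw, zH]
  rw [hz] at h1
  rw [mem_CH]
  -- zH * (qG l)⁻¹ * zH * qG l = 1
  have h2 : zH * ((prodw (cwn l))⁻¹ * (zH * prodw (cwn l))) = 1 := by
    simpa [mul_assoc] using h1
  have hzz : zH * zH = 1 := gG_mul_self 4
  have h3 : (prodw (cwn l))⁻¹ * (zH * prodw (cwn l)) = zH := by
    calc (prodw (cwn l))⁻¹ * (zH * prodw (cwn l))
        = zH * (zH * ((prodw (cwn l))⁻¹ * (zH * prodw (cwn l)))) := by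
          rw [← mul_assoc zH zH, hzz, one_mul]
      _ = zH := by rw [h2, mul_one]
  rw [qG]
  calc zH * prodw (cwn l) = prodw (cwn l) * ((prodw (cwn l))⁻¹ * (zH * prodw (cwn l))) := by
        rw [← mul_assoc, mul_inv_cancel, one_mul]
    _ = prodw (cwn l) * zH := by rw [h3]

theorem RH_le : RH ≤ CH := by
  rw [RH, MonoidHom.range_eq_map, ← PresentedGroup.closure_range_of, MonoidHom.map_closure,
    Subgroup.closure_le]
  rintro _ ⟨_, ⟨x, rfl⟩, rfl⟩
  rw [phi2_of, f2_eq]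
  exact qG_comm _ (idx_lt5 x)

/-! ### the lower bound -/

def okw (bs : List ℕ) (w : List ℕ) : Bool :=
  ((fl w).all fun l => decide (l < nl)) && bs.all fun b => evalw (fl w) b == b

theorem okw_spec {bs w : List ℕ} (h : okw bs w = true) :
    (∀ b ∈ bs, phi (qprod w) b = b) ∧ ∀ β, phi (qprod w) β = evalw (fl w) β := by
  simp only [okw, Bool.and_eq_true, List.all_eq_true, decide_eq_true_eq, beq_iff_eq] at h
  have h2 : ∀ β, phi (qprod w) β = evalw (fl w) β := fun β => by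
    rw [qprod_eq, phi_prodw_apply _ h.1]
  exact ⟨fun b hb => by rw [h2]; exact h.2 b hb, h2⟩

def imgs (β : ℕ) (W : List (List ℕ)) : List ℕ := W.map fun w => evalw (fl w) β

theorem lowstep (K : Subgroup G) (bs : List ℕ) (β : ℕ) (W : List (List ℕ)) (n : ℕ)
    (hK : ∀ g, g ∈ RH → (∀ b ∈ bs, phi g b = b) → g ∈ K)
    (hW : W.all (okw bs) = true) (hn : (imgs β W).toFinset.card = n) :
    n * Nat.card ↥(K ⊓ stabG phi β) ≤ Nat.card K := by
  haveI := finG
  rw [← hn]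
  apply step_gen phi K β
  intro p hp
  rw [List.mem_toFinset, imgs, List.mem_map] at hp
  obtain ⟨w, hw, rfl⟩ := hp
  rw [List.all_eq_true] at hW
  obtain ⟨h1, h2⟩ := okw_spec (hW w hw)
  exact ⟨qprod w, hK _ (qprod_mem w) h1, h2 β⟩

def KR1 : Subgroup G := RH ⊓ stabG phi 0
def KR2 : Subgroup G := KR1 ⊓ stabG phi 1
def KR3 : Subgroup G := KR2 ⊓ stabG phi 137
def KR4 : Subgroup G := KR3 ⊓ stabG phi 42
def wit0 : List (List ℕ) :=
  [
    [],
    [0, 1, 2, 3, 0],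
    [3],
    [0, 1, 0, 1],
    [0, 1, 2, 0],
    [0, 1, 0, 1, 4],
    [0, 1, 0, 4],
    [1],
    [0, 2],
    [0, 2, 3],
    [1, 3],
    [1, 2, 1, 3],
    [1, 2, 1],
    [0, 1, 0, 4, 2, 1],
    [0, 1, 0],
    [1, 2, 1, 0, 4],
    [0, 1, 2],
    [0, 1, 2, 3],
    [1, 0, 1],
    [0, 1, 0, 2, 1],
    [1, 2, 1, 0],
    [0, 3],
    [1, 2],
    [1, 2, 3],
    [1, 0, 1, 4],
    [1, 2, 0, 4],
    [0],
    [2, 1, 3],
    [2, 1, 2, 3],
    [0, 1, 3],
    [1, 2, 0],
    [2, 1, 2],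
    [1, 0],
    [0, 1],
    [2, 1],
    [1, 0, 4],
    [2, 3],
    [2],
    [1, 2, 1, 2],
    [0, 1, 0, 2],
    [1, 2, 1, 2, 3],
    [0, 1, 0, 4, 2]]

def wit1 : List (List ℕ) :=
  [
    [],
    [1, 0, 2, 3, 0, 1],
    [2, 4, 2],
    [1, 0, 2, 0, 1],
    [2, 1, 0, 1, 4, 2],
    [0, 2, 1, 4, 2, 0],
    [0, 2, 1, 2, 0],
    [2, 1, 0, 1, 2],
    [0, 2, 0, 1, 4, 2, 0],
    [0, 2, 0, 1, 2, 0],
    [2, 0, 1, 0, 1, 2],
    [2, 0, 1, 0, 1, 4, 2],
    [0, 2, 1, 0, 2, 0],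
    [0, 2, 1, 0, 4, 2, 0],
    [2, 0, 4, 2],
    [2, 0, 2]]

def wit2 : List (List ℕ) :=
  [
    [],
    [0, 1, 0, 3, 0, 1, 0]]

def wit3 : List (List ℕ) :=
  [
    [],
    [3, 4],
    [4, 3],
    [3, 4, 3, 4],
    [0, 2, 3, 4, 2, 0, 3],
    [0, 2, 3, 4, 2, 0, 4],
    [0, 2, 4, 2, 3, 0, 3],
    [0, 2, 4, 2, 3, 0, 4],
    [1, 0, 2, 3, 4, 2, 0, 1, 3],
    [1, 0, 2, 3, 4, 2, 0, 1, 4],
    [1, 0, 2, 4, 2, 3, 0, 1, 3],
    [1, 0, 2, 4, 2, 3, 0, 1, 4],
    [0, 1, 0, 2, 3, 4, 2, 0, 1, 0, 2, 4, 2],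
    [0, 1, 0, 2, 4, 2, 3, 0, 1, 0, 2, 4, 2],
    [0, 2, 1, 0, 2, 3, 4, 2, 0, 1, 2, 3, 0, 3],
    [0, 2, 1, 0, 2, 4, 2, 3, 0, 1, 2, 3, 0, 3]]

theorem low0 : 42 * Nat.card KR1 ≤ Nat.card RH :=
  lowstep RH [] 0 wit0 42 (fun g hg _ => hg) (by decide +kernel) (by decide +kernel)

theorem low1 : 16 * Nat.card KR2 ≤ Nat.card KR1 :=
  lowstep KR1 [0] 1 wit1 16 (fun g hg h => ⟨hg, mem_stabG.mpr (h 0 (by simp))⟩)
    (by decide +kernel) (by decide +kernel)

theorem low2 : 2 * Nat.card KR3 ≤ Nat.card KR2 :=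
  lowstep KR2 [1, 0] 137 wit2 2
    (fun g hg h => ⟨⟨hg, mem_stabG.mpr (h 0 (by simp))⟩, mem_stabG.mpr (h 1 (by simp))⟩)
    (by decide +kernel) (by decide +kernel)

theorem low3 : 16 * Nat.card KR4 ≤ Nat.card KR3 :=
  lowstep KR3 [137, 1, 0] 42 wit3 16
    (fun g hg h => ⟨⟨⟨hg, mem_stabG.mpr (h 0 (by simp))⟩, mem_stabG.mpr (h 1 (by simp))⟩,
      mem_stabG.mpr (h 137 (by simp))⟩)
    (by decide +kernel) (by decide +kernel)

theorem card_RH_ge : 21504 ≤ Nat.card RH := by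
  haveI := finG
  have h0 := low0
  have h1 := low1
  have h2 := low2
  have h3 := low3
  have h4 : 0 < Nat.card KR4 := Nat.card_pos
  omega

theorem RH_eq : RH = CH := by
  haveI := finG
  apply Subgroup.eq_of_le_of_card_ge RH_le
  have h1 := card_CH_le
  have h2 := card_RH_ge
  omega

theorem card_CH : Nat.card CH = 21504 := by
  haveI := finG
  have h1 := card_CH_le
  have h2 := card_RH_ge
  have h3 : Nat.card RH ≤ Nat.card CH := Subgroup.card_le_of_le RH_le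
  omega

/-! ### the order of the presented group and the isomorphism -/

/-- the presented group `HCP` is isomorphic to the centraliser of `e` in `He`. -/
def isoH : HCPTC.G ≃* CH := by
  haveI := finG
  haveI := finGP
  let ψ : HCPTC.G →* CH := phi2.codRestrict CH (fun x => RH_le ⟨x, rfl⟩)
  have hs : Function.Surjective ψ := by
    rintro ⟨c, hc⟩
    rw [← RH_eq] at hc
    obtain ⟨x, rfl⟩ := hc
    exact ⟨x, rfl⟩
  have hle : Nat.card HCPTC.G ≤ Nat.card CH := by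
    rw [card_CH]
    exact Nat.le_of_dvd (by norm_num) card_GP
  exact MulEquiv.ofBijective ψ (hs.bijective_of_nat_card_le hle)

theorem orderOf_zH : orderOf zH = 2 := by
  apply orderOf_eq_prime
  · rw [pow_two]; exact gG_mul_self 4
  · intro h
    have h1 : phi zH 5 = 5 := by rw [h, map_one, Equiv.Perm.one_apply]
    rw [phi_zH, σ_apply] at h1
    revert h1
    decide +kernel

end Cfsg.Agent.Helper17.HeCent
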