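import Mathlib
import Cfsg.Prelude.Def_SporCoxeter

/-! A presentation, on five involutions, of the centraliser of a transvection in `SL₅(2)` (a group
`2^{1+6}:L₃(2)` of order 21504): `a, b, c, d, e` stand for the transvections `x₂₃, x₃₄, x₄₂, x₀₂, x₂₁`
(rows and columns numbered from 0). -/

set_option autoImplicit false

namespace Cfsg.Agent.Helper17.HeCent

namespace HCP

inductive Gen
  | a
  | b
  | c
  | d
  | e
  deriving DecidableEq

abbrev a : FreeGroup Gen := FreeGroup.of Gen.a
abbrev b : FreeGroup Gen := FreeGroup.of Gen.b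
abbrev c : FreeGroup Gen := FreeGroup.of Gen.c
abbrev d : FreeGroup Gen := FreeGroup.of Gen.d
abbrev e : FreeGroup Gen := FreeGroup.of Gen.e

def edges : List (Gen × ℕ × Gen) :=
  [(.a, 4, .b), (.a, 4, .c), (.a, 4, .d), (.b, 4, .c), (.c, 4, .e), (.d, 4, .e)]

def extra : List (FreeGroup Gen) := [
  a * c * a * d * a * c * a * d,
  a * c * e * c * a * c * e * c,
  a * d * e * d * a * d * e * d,
  a * b * a * c * a * b * a * c * a * b * a * c,
  a * b * c * b * a * b * c * b * a * b * c * b,
  a * b * a * b * c * a * c * b * a * b * c * a * c,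
  a * b * c * b * a * d * a * b * c * b * d * a * d,
  a * b * c * e * c * b * a * b * c * e * c * b * e ]

end HCP

end Cfsg.Agent.Helper17.HeCent
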