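import Mathlib
import Cfsg.Agent.Helper17.HCPTC.Perm
import Cfsg.Agent.Helper17.HeCent.Gen
import Cfsg.Agent.Helper17.HeCent.CardG

/-! The centraliser of the transvection `1 + E₀₁` in `SL₅(2)` has order 21504 and is isomorphic to
the presented group `HCP`. -/

set_option autoImplicit false
set_option linter.all false
set_option maxRecDepth 100000

noncomputable section

namespace Cfsg.Agent.Helper17.HeCent

open Matrix

abbrev V5 := Fin 5 → ZMod 2
abbrev SL5 := Matrix.SpecialLinearGroup (Fin 5) (ZMod 2)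

/-- the action of `SL₅(2)` on column vectors, as a homomorphism to the permutation group. -/
def rho : SL5 →* Equiv.Perm V5 where
  toFun g :=
    { toFun := fun v => g.1 *ᵥ v
      invFun := fun v => (g⁻¹).1 *ᵥ v
      left_inv := fun v => by
        show (g⁻¹).1 *ᵥ (g.1 *ᵥ v) = v
        rw [Matrix.mulVec_mulVec, ← Matrix.SpecialLinearGroup.coe_mul, inv_mul_cancel,
          Matrix.SpecialLinearGroup.coe_one, Matrix.one_mulVec]
      right_inv := fun v => by
        show g.1 *ᵥ ((g⁻¹).1 *ᵥ v) = v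
        rw [Matrix.mulVec_mulVec, ← Matrix.SpecialLinearGroup.coe_mul, mul_inv_cancel,
          Matrix.SpecialLinearGroup.coe_one, Matrix.one_mulVec] }
  map_one' := by
    apply Equiv.ext
    intro v
    show (1 : SL5).1 *ᵥ v = v
    rw [Matrix.SpecialLinearGroup.coe_one, Matrix.one_mulVec]
  map_mul' g h := by
    apply Equiv.ext
    intro v
    show (g * h).1 *ᵥ v = g.1 *ᵥ (h.1 *ᵥ v)
    rw [Matrix.SpecialLinearGroup.coe_mul, Matrix.mulVec_mulVec]

theorem rho_apply (g : SL5) (v : V5) : rho g v = g.1 *ᵥ v := rfl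

/-- the elementary transvection `1 + E_{ij}` in `SL₅(2)`. -/
def tv (i j : Fin 5) (h : i ≠ j) : SL5 :=
  ⟨Matrix.transvection i j 1, Matrix.det_transvection_of_ne i j h 1⟩

def mq : ℕ → SL5
  | 0 => tv 2 3 (by decide)
  | 1 => tv 3 4 (by decide)
  | 2 => tv 4 2 (by decide)
  | 3 => tv 0 2 (by decide)
  | _ => tv 2 1 (by decide)

def f1 : HCP.Gen → SL5
  | .a => mq 0
  | .b => mq 1
  | .c => mq 2
  | .d => mq 3
  | .e => mq 4

def mprod : List ℕ → SL5
  | [] => 1
  | l :: w => mprod w * mq l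

theorem rel1 : ∀ r ∈ HCPTC.Rels, FreeGroup.lift f1 r = 1 := by
  intro r hr
  rcases hr with ⟨x, _, y, _, rfl⟩ | hr
  · rw [map_pow, map_mul, FreeGroup.lift_apply_of, FreeGroup.lift_apply_of]
    cases x <;> cases y <;> decide +kernel
  · simp only [Set.mem_setOf_eq, HCP.extra, List.mem_cons, List.mem_singleton, List.not_mem_nil,
      or_false] at hr
    rcases hr with rfl | rfl | rfl | rfl | rfl | rfl | rfl | rfl
    all_goals (simp only [map_mul, FreeGroup.lift_apply_of]; decide +kernel)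

def phi1 : HCPTC.G →* SL5 := PresentedGroup.toGroup rel1

theorem phi1_of (x : HCP.Gen) : phi1 (PresentedGroup.of x) = f1 x :=
  PresentedGroup.toGroup.of rel1

def RM : Subgroup SL5 := phi1.range

theorem mq_mem (l : ℕ) : mq l ∈ RM := by
  have h : ∀ x : HCP.Gen, f1 x ∈ RM := fun x => ⟨PresentedGroup.of x, phi1_of x⟩
  match l with
  | 0 => exact h .a
  | 1 => exact h .b
  | 2 => exact h .c
  | 3 => exact h .d
  | (n + 4) => exact h .e

theorem mprod_mem (w : List ℕ) : mprod w ∈ RM := by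
  induction w with
  | nil => exact RM.one_mem
  | cons l w ih => exact RM.mul_mem ih (mq_mem l)

/-- the transvection `1 + E₀₁`. -/
def s0 : SL5 := tv 0 1 (by decide)

def CM : Subgroup SL5 := Subgroup.centralizer {s0}

theorem mem_CM {k : SL5} : k ∈ CM ↔ s0 * k = k * s0 := by
  rw [CM, Subgroup.mem_centralizer_iff]
  simp

theorem RM_le : RM ≤ CM := by
  rw [RM, MonoidHom.range_eq_map, ← PresentedGroup.closure_range_of, MonoidHom.map_closure,
    Subgroup.closure_le]
  rintro _ ⟨_, ⟨x, rfl⟩, rfl⟩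
  rw [phi1_of, SetLike.mem_coe, mem_CM]
  cases x <;> decide +kernel

/-! ### the shape of an element of the centraliser -/

def ev (j : Fin 5) : V5 := Pi.single j 1

theorem s0_val : s0.1 = !![1, 1, 0, 0, 0; 0, 1, 0, 0, 0; 0, 0, 1, 0, 0; 0, 0, 0, 1, 0; 0, 0, 0, 0, 1] := by
  decide +kernel

theorem cm_entries {k : SL5} (hk : k ∈ CM) :
    (∀ i, i ≠ 0 → k.1 i 0 = 0) ∧ (∀ j, j ≠ 1 → k.1 1 j = 0) ∧ k.1 0 0 = k.1 1 1 := by
  have h : s0.1 * k.1 = k.1 * s0.1 := by
    rw [← Matrix.SpecialLinearGroup.coe_mul, ← Matrix.SpecialLinearGroup.coe_mul, mem_CM.mp hk]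
  rw [s0_val] at h
  have e := fun i j => congrFun (congrFun h i) j
  refine ⟨?_, ?_, ?_⟩
  · intro i hi
    have := e i 1
    fin_cases i <;> simp [Matrix.mul_apply, Fin.sum_univ_five] at this hi ⊢ <;> first | exact this | exact this.symm | skip
  · intro j hj
    have := e 0 j
    fin_cases j <;> simp [Matrix.mul_apply, Fin.sum_univ_five] at this hj ⊢ <;> first | exact this | exact this.symm | skip
  · have := e 0 1
    simp [Matrix.mul_apply, Fin.sum_univ_five] at this
    linear_combination (-1 : ZMod 2) * this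

theorem k00 {k : SL5} (hk : k ∈ CM) : k.1 0 0 = 1 := by
  obtain ⟨h1, h2, h3⟩ := cm_entries hk
  by_contra hne
  have h0 : k.1 0 0 = 0 := by
    have : ∀ x : ZMod 2, x ≠ 1 → x = 0 := by decide
    exact this _ hne
  have hdet : k.1.det = 0 := by
    apply Matrix.det_eq_zero_of_column_eq_zero 0
    intro i
    by_cases hi : i = 0
    · subst hi; exact h0
    · exact h1 i hi
  rw [k.2] at hdet
  exact one_ne_zero hdet

theorem col_eq (k : SL5) (j i : Fin 5) : (rho k (ev j)) i = k.1 i j := by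
  rw [rho_apply, ev, Matrix.mulVec_single_one]
  rfl

theorem coord1 {k : SL5} (hk : k ∈ CM) (v : V5) : (rho k v) 1 = v 1 := by
  obtain ⟨h1, h2, h3⟩ := cm_entries hk
  have h11 : k.1 1 1 = 1 := by rw [← h3]; exact k00 hk
  rw [rho_apply, Matrix.mulVec, dotProduct, Fin.sum_univ_five, h2 0 (by decide), h2 2 (by decide),
    h2 3 (by decide), h2 4 (by decide), h11]
  simp

theorem fix_e0 {k : SL5} (hk : k ∈ CM) : rho k (ev 0) = ev 0 := by
  obtain ⟨h1, h2, h3⟩ := cm_entries hk
  funext i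
  rw [col_eq]
  by_cases hi : i = 0
  · subst hi; rw [k00 hk]; simp [ev]
  · rw [h1 i hi]; simp [ev, hi]

theorem fixed_of (k : SL5) (J : Finset (Fin 5)) (hJ : ∀ j ∈ J, rho k (ev j) = ev j) (v : V5)
    (hv : ∀ j, j ∉ J → v j = 0) : rho k v = v := by
  have hcol : ∀ j ∈ J, ∀ i, k.1 i j = if i = j then 1 else 0 := by
    intro j hj i
    rw [← col_eq, hJ j hj, ev, Pi.single_apply]
  funext i
  rw [rho_apply, Matrix.mulVec, dotProduct, Finset.sum_eq_single i]
  · by_cases hi : i ∈ J
    · rw [hcol i hi i, if_pos rfl, one_mul]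
    · rw [hv i hi, mul_zero]
  · intro j _ hji
    by_cases hj : j ∈ J
    · rw [hcol j hj i, if_neg (Ne.symm hji), zero_mul]
    · rw [hv j hj, mul_zero]
  · intro h; exact absurd (Finset.mem_univ i) h

/-! ### the upper bound -/

def KM1 : Subgroup SL5 := CM ⊓ stabG rho (ev 1)
def KM2 : Subgroup SL5 := KM1 ⊓ stabG rho (ev 2)
def KM3 : Subgroup SL5 := KM2 ⊓ stabG rho (ev 3)
def KM4 : Subgroup SL5 := KM3 ⊓ stabG rho (ev 4)

def S1 : Finset V5 := Finset.univ.filter (fun v => v 1 = 1)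
def S2 : Finset V5 := Finset.univ.filter (fun v => v 1 = 0 ∧ ¬ (v 2 = 0 ∧ v 3 = 0 ∧ v 4 = 0))
def S3 : Finset V5 := Finset.univ.filter (fun v => v 1 = 0 ∧ ¬ (v 3 = 0 ∧ v 4 = 0))
def S4 : Finset V5 := Finset.univ.filter (fun v => v 1 = 0 ∧ ¬ (v 4 = 0))

theorem card_S1 : S1.card = 16 := by decide +kernel
theorem card_S2 : S2.card = 14 := by decide +kernel
theorem card_S3 : S3.card = 12 := by decide +kernel
theorem card_S4 : S4.card = 8 := by decide +kernel

theorem ev_apply (j i : Fin 5) : ev j i = if i = j then 1 else 0 := by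
  rw [ev, Pi.single_apply]

theorem up1 : Nat.card CM ≤ 16 * Nat.card KM1 := by
  have h := orbit_le_gen rho CM (ev 1) S1 (fun k hk => by
    rw [S1, Finset.mem_filter]
    refine ⟨Finset.mem_univ _, ?_⟩
    rw [coord1 hk, ev_apply]; simp)
  rw [card_S1] at h
  exact h

theorem up2 : Nat.card KM1 ≤ 14 * Nat.card KM2 := by
  have h := orbit_le_gen rho KM1 (ev 2) S2 (fun k hk => by
    rw [S2, Finset.mem_filter]
    refine ⟨Finset.mem_univ _, ?_, ?_⟩
    · rw [coord1 hk.1, ev_apply]; simp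
    · rintro ⟨h2, h3, h4⟩
      have h1 : (rho k (ev 2)) 1 = 0 := by rw [coord1 hk.1, ev_apply]; simp
      have hf := fixed_of k {0} (by
        intro j hj
        rw [Finset.mem_singleton] at hj
        subst hj
        exact fix_e0 hk.1) (rho k (ev 2)) (by
        intro j hj
        rw [Finset.mem_singleton] at hj
        fin_cases j
        · exact absurd rfl hj
        · exact h1
        · exact h2
        · exact h3
        · exact h4)
      have he := (rho k).injective hf
      have := congrFun he 2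
      rw [h2, ev_apply] at this
      simp at this)
  rw [card_S2] at h
  exact h

theorem up3 : Nat.card KM2 ≤ 12 * Nat.card KM3 := by
  have h := orbit_le_gen rho KM2 (ev 3) S3 (fun k hk => by
    rw [S3, Finset.mem_filter]
    refine ⟨Finset.mem_univ _, ?_, ?_⟩
    · rw [coord1 hk.1.1, ev_apply]; simp
    · rintro ⟨h3, h4⟩
      have h1 : (rho k (ev 3)) 1 = 0 := by rw [coord1 hk.1.1, ev_apply]; simp
      have hf := fixed_of k {0, 2} (by
        intro j hj
        rw [Finset.mem_insert, Finset.mem_singleton] at hj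
        rcases hj with rfl | rfl
        · exact fix_e0 hk.1.1
        · exact mem_stabG.mp hk.2) (rho k (ev 3)) (by
        intro j hj
        rw [Finset.mem_insert, Finset.mem_singleton] at hj
        fin_cases j
        · exact absurd (Or.inl rfl) hj
        · exact h1
        · exact absurd (Or.inr rfl) hj
        · exact h3
        · exact h4)
      have he := (rho k).injective hf
      have := congrFun he 3
      rw [h3, ev_apply] at this
      simp at this)
  rw [card_S3] at h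
  exact h

theorem up4 : Nat.card KM3 ≤ 8 * Nat.card KM4 := by
  have h := orbit_le_gen rho KM3 (ev 4) S4 (fun k hk => by
    rw [S4, Finset.mem_filter]
    refine ⟨Finset.mem_univ _, ?_, ?_⟩
    · rw [coord1 hk.1.1.1, ev_apply]; simp
    · intro h4
      have h1 : (rho k (ev 4)) 1 = 0 := by rw [coord1 hk.1.1.1, ev_apply]; simp
      have hf := fixed_of k {0, 2, 3} (by
        intro j hj
        rw [Finset.mem_insert, Finset.mem_insert, Finset.mem_singleton] at hj
        rcases hj with rfl | rfl | rfl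
        · exact fix_e0 hk.1.1.1
        · exact mem_stabG.mp hk.1.2
        · exact mem_stabG.mp hk.2) (rho k (ev 4)) (by
        intro j hj
        rw [Finset.mem_insert, Finset.mem_insert, Finset.mem_singleton] at hj
        fin_cases j
        · exact absurd (Or.inl rfl) hj
        · exact h1
        · exact absurd (Or.inr (Or.inl rfl)) hj
        · exact absurd (Or.inr (Or.inr rfl)) hj
        · exact h4)
      have he := (rho k).injective hf
      have := congrFun he 4
      rw [h4, ev_apply] at this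
      simp at this)
  rw [card_S4] at h
  exact h

theorem KM4_eq : KM4 = ⊥ := by
  rw [eq_bot_iff]
  intro k hk
  rw [Subgroup.mem_bot]
  apply Subtype.ext
  ext i j
  have hfix : rho k (ev j) = ev j := by
    fin_cases j
    · exact fix_e0 hk.1.1.1.1
    · exact mem_stabG.mp hk.1.1.1.2
    · exact mem_stabG.mp hk.1.1.2
    · exact mem_stabG.mp hk.1.2
    · exact mem_stabG.mp hk.2
  rw [← col_eq, hfix, ev_apply, Matrix.SpecialLinearGroup.coe_one, Matrix.one_apply]

theorem card_CM_le : Nat.card CM ≤ 21504 := by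
  have h1 := up1
  have h2 := up2
  have h3 := up3
  have h4 := up4
  have h5 : Nat.card KM4 = 1 := by rw [KM4_eq]; exact Subgroup.card_bot
  omega

/-! ### the lower bound -/

/-- the action of a word on a vector. -/
def act : List ℕ → V5 → V5
  | [], v => v
  | l :: w, v => act w ((mq l).1 *ᵥ v)

theorem rho_mprod (w : List ℕ) (v : V5) : rho (mprod w) v = act w v := by
  induction w generalizing v with
  | nil => rw [mprod, map_one]; rfl
  | cons l w ih =>
    rw [mprod, map_mul, Equiv.Perm.mul_apply, ih]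
    rfl

theorem lowstepM (K : Subgroup SL5) (β : V5) (ws : List (List ℕ)) (n : ℕ)
    (hK : ∀ w ∈ ws, mprod w ∈ K)
    (hn : (ws.map (fun w => act w β)).toFinset.card = n) :
    n * Nat.card ↥(K ⊓ stabG rho β) ≤ Nat.card K := by
  rw [← hn]
  apply step_gen rho K β
  intro p hp
  rw [List.mem_toFinset, List.mem_map] at hp
  obtain ⟨w, hw, rfl⟩ := hp
  exact ⟨mprod w, hK w hw, rho_mprod w β⟩

def KL1 : Subgroup SL5 := RM ⊓ stabG rho (ev 1)
def KL2 : Subgroup SL5 := KL1 ⊓ stabG rho (ev 2)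
def KL3 : Subgroup SL5 := KL2 ⊓ stabG rho (ev 3)
def KL4 : Subgroup SL5 := KL3 ⊓ stabG rho (ev 4)

def witM0 : List (List ℕ) :=
  [
    [],
    [4, 3, 4],
    [4],
    [4, 3],
    [4, 2, 1, 2, 0],
    [4, 2, 1, 2, 3, 0],
    [4, 2, 1, 2],
    [4, 2, 1, 2, 3],
    [4, 2, 4],
    [4, 2, 3, 4],
    [4, 2],
    [4, 2, 3],
    [4, 2, 1, 0],
    [4, 2, 1, 3, 0],
    [4, 2, 1],
    [4, 2, 1, 3]]

def witM1 : List (List ℕ) :=
  [
    [],
    [3],
    [2, 1, 2, 0],
    [2, 1, 2, 3, 0],
    [2, 1, 2],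
    [2, 1, 2, 3],
    [2, 1, 0, 1],
    [2, 1, 3, 0, 1],
    [2],
    [2, 3],
    [2, 1, 0],
    [2, 1, 3, 0],
    [2, 1],
    [2, 1, 3]]

def witM2 : List (List ℕ) :=
  [
    [],
    [0, 3, 0, 3],
    [0],
    [3, 0, 3],
    [0, 2, 0, 2, 1],
    [0, 2, 3, 0, 2, 1, 3],
    [2, 0, 2, 1],
    [2, 3, 0, 2, 1, 3],
    [0, 2, 0, 2],
    [0, 2, 3, 0, 2, 3],
    [2, 0, 2],
    [2, 3, 0, 2, 3]]

def witM3 : List (List ℕ) :=
  [
    [],
    [0, 1, 0, 3, 0, 1, 0, 3],
    [0, 1, 0, 1],
    [1, 3, 0, 1, 0, 3],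
    [1],
    [0, 3, 0, 1, 0, 3, 0],
    [0, 1, 0],
    [3, 0, 1, 0, 3]]

theorem lowM0 : 16 * Nat.card KL1 ≤ Nat.card RM :=
  lowstepM RM (ev 1) witM0 16 (fun w _ => mprod_mem w) (by decide +kernel)

theorem witM1_ok : ∀ w ∈ witM1, act w (ev 1) = ev 1 := by decide +kernel

theorem lowM1 : 14 * Nat.card KL2 ≤ Nat.card KL1 :=
  lowstepM KL1 (ev 2) witM1 14 (fun w hw =>
    ⟨mprod_mem w, mem_stabG.mpr ((rho_mprod w _).trans (witM1_ok w hw))⟩) (by decide +kernel)

theorem witM2_ok : ∀ w ∈ witM2, act w (ev 1) = ev 1 ∧ act w (ev 2) = ev 2 := by decide +kernel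

theorem lowM2 : 12 * Nat.card KL3 ≤ Nat.card KL2 :=
  lowstepM KL2 (ev 3) witM2 12 (fun w hw =>
    ⟨⟨mprod_mem w, mem_stabG.mpr ((rho_mprod w _).trans (witM2_ok w hw).1)⟩,
      mem_stabG.mpr ((rho_mprod w _).trans (witM2_ok w hw).2)⟩) (by decide +kernel)

theorem witM3_ok : ∀ w ∈ witM3, act w (ev 1) = ev 1 ∧ act w (ev 2) = ev 2 ∧ act w (ev 3) = ev 3 := by
  decide +kernel

theorem lowM3 : 8 * Nat.card KL4 ≤ Nat.card KL3 :=
  lowstepM KL3 (ev 4) witM3 8 (fun w hw =>
    ⟨⟨⟨mprod_mem w, mem_stabG.mpr ((rho_mprod w _).trans (witM3_ok w hw).1)⟩,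
      mem_stabG.mpr ((rho_mprod w _).trans (witM3_ok w hw).2.1)⟩,
      mem_stabG.mpr ((rho_mprod w _).trans (witM3_ok w hw).2.2)⟩) (by decide +kernel)

theorem card_RM_ge : 21504 ≤ Nat.card RM := by
  have h0 := lowM0
  have h1 := lowM1
  have h2 := lowM2
  have h3 := lowM3
  have h4 : 0 < Nat.card KL4 := Nat.card_pos
  omega

theorem RM_eq : RM = CM :=
  Subgroup.eq_of_le_of_card_ge RM_le (card_CM_le.trans card_RM_ge)

theorem card_CM : Nat.card CM = 21504 :=
  le_antisymm card_CM_le (by rw [← RM_eq]; exact card_RM_ge)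

/-- the presented group `HCP` is isomorphic to the centraliser of `1 + E₀₁` in `SL₅(2)`. -/
def isoM : HCPTC.G ≃* CM := by
  haveI := finGP
  let ψ : HCPTC.G →* CM := phi1.codRestrict CM (fun x => RM_le ⟨x, rfl⟩)
  have hs : Function.Surjective ψ := by
    rintro ⟨c, hc⟩
    rw [← RM_eq] at hc
    obtain ⟨x, rfl⟩ := hc
    exact ⟨x, rfl⟩
  have hle : Nat.card HCPTC.G ≤ Nat.card CM := by
    rw [card_CM]
    exact Nat.le_of_dvd (by norm_num) card_GP
  exact MulEquiv.ofBijective ψ (hs.bijective_of_nat_card_le hle)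

theorem eq_s0 (s : SL5) (hs : (s : Matrix (Fin 5) (Fin 5) (ZMod 2)) = Matrix.transvection 0 1 1) :
    s = s0 :=
  Subtype.ext hs

end Cfsg.Agent.Helper17.HeCent
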